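import Groth.Agent.Lib.AlgClosedExt25.SepClosed
import Groth.Agent.Lib.LimH13.ArrowModel

/-!
# Covers of a product with a connected proper factor
-/

open CategoryTheory Limits AlgebraicGeometry TopologicalSpace

set_option autoImplicit false
set_option linter.style.haveILetI false
set_option backward.isDefEq.respectTransparency false

namespace Groth.Agent.Product25

universe u

variable {k : Type u} [Field k] [IsAlgClosed k] {X Y : Scheme.{u}}
  (pX : X ⟶ Spec (CommRingCat.of k)) (pY : Y ⟶ Spec (CommRingCat.of k)) [IsProper pX] [ConnectedSpace X]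
  [IsLocallyNoetherian Y] [ConnectedSpace Y]

/-- The product is connected. -/
theorem connectedSpace_product : ConnectedSpace ↥(pullback pX pY) := by
  haveI := AlgClosedExt25.geometricallyConnected_of_connected pX
  haveI : UniversallyOpen pX := inferInstance
  haveI : UniversallyOpen (pullback.snd pX pY) := MorphismProperty.pullback_snd _ _ ‹UniversallyOpen pX›
  exact GeometricallyConnected.connectedSpace (pullback.snd pX pY) (pullback.snd pX pY).isOpenMap

/-- A connected cover of the product with a section over a geometric point of the second factor comes from it. -/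
theorem essImage_snd_of_section (W : FEt.Cat (pullback pX pY)) [ConnectedSpace W.left]
    {Ω : Type u} [Field Ω] [IsAlgClosed Ω] (η : Spec (CommRingCat.of Ω) ⟶ Y)
    (σ : pullback (pullback.snd pX pY) η ⟶ W.left)
    (hσ : σ ≫ W.hom = pullback.fst (pullback.snd pX pY) η) :
    (FEt.restrict (pullback.snd pX pY)).essImage W := by
  let I := Scheme.IdealSheafData.vanishingIdeal (⊤ : Closeds X)
  let r : I.subscheme ⟶ X := I.subschemeι
  haveI : Surjective r := ⟨fun x => by
    have : x ∈ Set.range r := by
      rw [Scheme.IdealSheafData.range_subschemeι, Scheme.IdealSheafData.coe_support_vanishingIdeal]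
      trivial
    exact this⟩
  haveI : ConnectedSpace I.subscheme := (r.isClosedEmbedding.isEmbedding.toHomeomorphOfSurjective
    r.surjective).symm.surjective.connectedSpace
      (r.isClosedEmbedding.isEmbedding.toHomeomorphOfSurjective r.surjective).symm.continuous
  haveI : IsReduced I.subscheme := RedSepLib.isReduced_vanishingIdeal_subscheme _
  haveI : IsProper (r ≫ pX) := inferInstance
  let r' : pullback (r ≫ pX) pY ⟶ pullback pX pY :=
    pullback.map (r ≫ pX) pY pX pY r (𝟙 _) (𝟙 _) (by simp) (by simp)
  have hr' : IsPullback r' (pullback.fst (r ≫ pX) pY) (pullback.fst pX pY) r := by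
    refine IsPullback.of_right ?_ (pullback.lift_fst _ _ _) (IsPullback.of_hasPullback pX pY).flip
    rw [show r' ≫ pullback.snd pX pY = pullback.snd (r ≫ pX) pY from
      (pullback.lift_snd _ _ _).trans (Category.comp_id _)]
    exact (IsPullback.of_hasPullback (r ≫ pX) pY).flip
  haveI : IsClosedImmersion r' := MorphismProperty.of_isPullback (P := @IsClosedImmersion) hr'.flip inferInstance
  haveI : Surjective r' := MorphismProperty.of_isPullback (P := @Surjective) hr'.flip inferInstance
  haveI := AlgClosedExt25.isEquivalence_of_universalHomeo r'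
  let f := pullback.snd (r ≫ pX) pY
  have hr'f : r' ≫ pullback.snd pX pY = f := (pullback.lift_snd _ _ _).trans (Category.comp_id _)
  haveI := AlgClosedExt25.geometricallyConnected_of_connected (r ≫ pX)
  haveI := AlgClosedExt25.geometricallyReduced_of_isReduced (r ≫ pX)
  haveI : LocallyOfFinitePresentation (r ≫ pX) := LimH13.locallyOfFinitePresentation_of_noetherian _
  haveI : Flat f := inferInstance
  haveI : LocallyOfFinitePresentation f := inferInstance
  haveI : IsProper f := inferInstance
  have hfib : ∀ (L : Type u) [Field L] [IsAlgClosed L] (t : Spec (CommRingCat.of L) ⟶ Y),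
      ConnectedSpace ↥(pullback f t) ∧ IsReduced (pullback f t) := fun L _ _ t =>
    ⟨GeometricallyConnected.geometrically_connectedSpace (f := f) t _ _ (IsPullback.of_hasPullback f t),
      GeometricallyReduced.geometrically_isReduced (f := f) t _ _ (IsPullback.of_hasPullback f t)⟩
  let w : W.left ⟶ pullback pX pY := W.hom
  haveI : Surjective (pullback.fst w r') := MorphismProperty.pullback_fst _ _ ‹Surjective r'›
  haveI : IsClosedImmersion (pullback.fst w r') := MorphismProperty.pullback_fst _ _ ‹IsClosedImmersion r'›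
  let W₁ := (FEt.restrict r').obj W
  haveI : ConnectedSpace W₁.left := ((pullback.fst w r').isClosedEmbedding.isEmbedding.toHomeomorphOfSurjective
    (pullback.fst w r').surjective).symm.surjective.connectedSpace
      ((pullback.fst w r').isClosedEmbedding.isEmbedding.toHomeomorphOfSurjective
    (pullback.fst w r').surjective).symm.continuous
  let j : pullback f η ⟶ pullback (pullback.snd pX pY) η :=
    pullback.lift (pullback.fst f η ≫ r') (pullback.snd f η) (by rw [Category.assoc, hr'f, pullback.condition])
  have hl : (j ≫ σ) ≫ w = pullback.fst f η ≫ r' := by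
    rw [Category.assoc, show σ ≫ w = pullback.fst (pullback.snd pX pY) η from hσ, pullback.lift_fst]
  obtain ⟨T, ⟨e⟩⟩ := MidExact25.essImage_of_section f hfib W₁ Ω η (pullback.lift _ _ hl) (pullback.lift_snd _ _ _)
  exact ⟨T, ⟨(FEt.restrict r').preimageIso
    (AlgClosedExt25.restrictSquare r' (pullback.snd pX pY) (𝟙 _) f (hr'f.trans (Category.id_comp _).symm) T ≪≫
      (FEt.restrict (𝟙 (pullback (r ≫ pX) pY))).mapIso e ≪≫
      AlgClosedExt25.restrictSquare (𝟙 _) r' r' (𝟙 _) ((Category.id_comp _).trans (Category.comp_id _).symm) W ≪≫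
      (FEt.restrict r').mapIso (MorphismProperty.Over.isoMk (asIso (pullback.fst w (𝟙 _)))
        (pullback.condition.trans (Category.comp_id _))))⟩⟩

/-- Connected covers of the product are dominated by products of covers. -/
theorem exists_product_dominates (W : FEt.Cat (pullback pX pY)) [ConnectedSpace W.left] :
    ∃ (X' : FEt.Cat X) (Y' : FEt.Cat Y) (φ : pullback (X'.hom ≫ pX) (Y'.hom ≫ pY) ⟶ W.left),
      φ ≫ W.hom = pullback.map (X'.hom ≫ pX) (Y'.hom ≫ pY) pX pY X'.hom Y'.hom (𝟙 _)
        (Category.comp_id _) (Category.comp_id _) ∧ Surjective φ := by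
  haveI := connectedSpace_product pX pY
  let w : W.left ⟶ pullback pX pY := W.hom
  haveI : IsFinite w := W.prop.1
  haveI : Etale w := W.prop.2
  haveI : Surjective w := by
    refine ⟨fun b => ?_⟩
    obtain ⟨a, -, ha⟩ := ((FEtEq25.isClopen_image w isClopen_univ).eq_univ
      (Set.univ_nonempty.image (w : W.left → _))).ge (Set.mem_univ b)
    exact ⟨a, ha⟩
  obtain ⟨Ω, _, _, η, -⟩ := FEtEq25.exists_geomPoint (W := Y) (Classical.arbitrary Y)
  obtain ⟨χ, hχ⟩ := Spec.map_surjective (η ≫ pY)
  letI : Algebra k Ω := χ.hom.toAlgebra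
  have hφ : Spec.map (CommRingCat.ofHom (algebraMap k Ω)) = η ≫ pY := hχ
  let φ := Spec.map (CommRingCat.ofHom (algebraMap k Ω))
  haveI := AlgClosedExt25.geometricallyConnected_of_connected pX
  haveI : ConnectedSpace ↥(pullback pX φ) :=
    GeometricallyConnected.geometrically_connectedSpace (f := pX) φ _ _ (IsPullback.of_hasPullback pX φ)
  let i : pullback pX φ ⟶ pullback pX pY :=
    pullback.map pX φ pX pY (𝟙 X) η (𝟙 _) (by simp) (by rw [Category.comp_id]; exact hφ)
  haveI := AlgClosedExt25.restrict_sepClosed_isEquivalence k Ω pX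
  obtain ⟨X₁, ⟨e₁⟩⟩ := Functor.EssSurj.mem_essImage (FEt.restrict (pullback.fst pX φ)) ((FEt.restrict i).obj W)
  let x₁ : X₁.left ⟶ X := X₁.hom
  haveI : IsFinite x₁ := X₁.prop.1
  haveI : Etale x₁ := X₁.prop.2
  haveI : Nonempty X₁.left := by
    obtain ⟨a, ha⟩ := w.surjective (i (Classical.arbitrary _))
    obtain ⟨b, -, -⟩ := Scheme.Pullback.exists_preimage_pullback (f := w) (g := i) a _ ha
    let v : ↥(pullback x₁ (pullback.fst pX φ)) := e₁.inv.left b
    exact ⟨pullback.fst x₁ (pullback.fst pX φ) v⟩
  haveI : IsLocallyNoetherian X := LocallyOfFiniteType.isLocallyNoetherian pX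
  haveI : IsLocallyNoetherian X₁.left := LocallyOfFiniteType.isLocallyNoetherian x₁
  haveI := SectionCompOpen4.locallyConnectedSpace X₁.left
  let C : X₁.left.Opens := ⟨connectedComponent (Classical.arbitrary X₁.left), isOpen_connectedComponent⟩
  let X' := FEtEq25.openCover' X₁ C isClosed_connectedComponent
  haveI : ConnectedSpace X'.left := isConnected_iff_connectedSpace.1 isConnected_connectedComponent
  let x' : X'.left ⟶ X := X'.hom
  haveI : IsFinite x' := X'.prop.1
  haveI : Etale x' := X'.prop.2
  haveI : IsProper (x' ≫ pX) := inferInstance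
  let m : pullback (x' ≫ pX) pY ⟶ pullback pX pY :=
    pullback.map (x' ≫ pX) pY pX pY x' (𝟙 _) (𝟙 _) (by simp) (by simp)
  have hm : IsPullback m (pullback.fst (x' ≫ pX) pY) (pullback.fst pX pY) x' := by
    refine IsPullback.of_right ?_ (pullback.lift_fst _ _ _) (IsPullback.of_hasPullback pX pY).flip
    rw [show m ≫ pullback.snd pX pY = pullback.snd (x' ≫ pX) pY from
      (pullback.lift_snd _ _ _).trans (Category.comp_id _)]
    exact (IsPullback.of_hasPullback (x' ≫ pX) pY).flip
  haveI : IsFinite m := MorphismProperty.of_isPullback (P := @IsFinite) hm.flip ‹_›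
  haveI : Etale m := MorphismProperty.of_isPullback (P := @Etale) hm.flip ‹_›
  haveI := connectedSpace_product (x' ≫ pX) pY
  let f := pullback.snd (x' ≫ pX) pY
  -- the section over the fibre
  let F := pullback f η
  let a₀ : F ⟶ pullback pX φ := pullback.lift (pullback.fst f η ≫ pullback.fst (x' ≫ pX) pY ≫ x') (pullback.snd f η) (by
    simp only [Category.assoc, φ, hφ]
    rw [pullback.condition, ← Category.assoc, pullback.condition, Category.assoc])
  have hb : (pullback.fst f η ≫ pullback.fst (x' ≫ pX) pY ≫ C.ι) ≫ x₁ = a₀ ≫ pullback.fst pX φ := by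
    rw [pullback.lift_fst]; simp only [Category.assoc]; rfl
  let b : F ⟶ pullback x₁ (pullback.fst pX φ) := pullback.lift _ _ hb
  have he₁ : e₁.hom.left ≫ pullback.snd w i = pullback.snd x₁ (pullback.fst pX φ) := MorphismProperty.Over.w e₁.hom
  have hs : (b ≫ e₁.hom.left ≫ pullback.fst w i) ≫ w = pullback.fst f η ≫ m := by
    simp only [Category.assoc, pullback.condition]
    rw [reassoc_of% he₁, pullback.lift_snd_assoc]
    apply pullback.hom_ext
    · simp [a₀, i, m]
    · simp only [Category.assoc, a₀, i, m, pullback.lift_snd, Category.comp_id, pullback.lift_snd_assoc]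
      exact pullback.condition.symm
  let s : F ⟶ pullback w m := pullback.lift _ _ hs
  haveI : IsFinite (pullback.snd w m) := MorphismProperty.pullback_snd _ _ ‹IsFinite w›
  haveI : Etale (pullback.snd w m) := MorphismProperty.pullback_snd _ _ ‹Etale w›
  haveI : ConnectedSpace F := by
    haveI := AlgClosedExt25.geometricallyConnected_of_connected (x' ≫ pX)
    exact GeometricallyConnected.geometrically_connectedSpace (f := f) η _ _ (IsPullback.of_hasPullback f η)
  haveI : IsLocallyNoetherian (pullback w m) := LocallyOfFiniteType.isLocallyNoetherian (pullback.snd w m ≫ f)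
  haveI := SectionCompOpen4.locallyConnectedSpace (pullback w m)
  let W' : FEt.Cat (pullback (x' ≫ pX) pY) := (FEt.restrict m).obj W
  let D : (pullback w m).Opens := ⟨connectedComponent (s (Classical.arbitrary F)), isOpen_connectedComponent⟩
  let W'' := FEtEq25.openCover' W' D isClosed_connectedComponent
  haveI : ConnectedSpace W''.left := isConnected_iff_connectedSpace.1 isConnected_connectedComponent
  have hsr : Set.range s ⊆ Set.range D.ι := by
    rw [Scheme.Opens.range_ι]
    exact (isConnected_range s.continuous).subset_connectedComponent ⟨_, rfl⟩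
  let σ : F ⟶ W''.left := IsOpenImmersion.lift D.ι s hsr
  have hσ : σ ≫ W''.hom = pullback.fst f η := by
    show σ ≫ D.ι ≫ pullback.snd w m = _
    rw [IsOpenImmersion.lift_fac_assoc, pullback.lift_snd]
  obtain ⟨T, ⟨e⟩⟩ := essImage_snd_of_section (x' ≫ pX) pY W'' η σ hσ
  let y' : T.left ⟶ Y := T.hom
  let ψ : pullback (x' ≫ pX) (y' ≫ pY) ≅ pullback y' f :=
    { hom := pullback.lift (pullback.snd _ _)
        (pullback.lift (pullback.fst _ _) (pullback.snd _ _ ≫ y') (by rw [Category.assoc]; exact pullback.condition))
        (by rw [pullback.lift_snd])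
      inv := pullback.lift (pullback.snd y' f ≫ pullback.fst (x' ≫ pX) pY) (pullback.fst y' f) (by
        rw [Category.assoc, pullback.condition, ← Category.assoc _ (pullback.snd (x' ≫ pX) pY) pY,
          ← pullback.condition, Category.assoc])
      hom_inv_id := by apply pullback.hom_ext <;> simp
      inv_hom_id := by
        apply pullback.hom_ext
        · simp
        · apply pullback.hom_ext
          · simp
          · simp only [Category.assoc, Category.id_comp, pullback.lift_snd, pullback.lift_snd_assoc]
            exact pullback.condition }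
  let eL : pullback y' f ≅ (D : Scheme.{u}) :=
    (MorphismProperty.Over.forget _ _ _ ⋙ Over.forget _).mapIso e
  haveI : IsClosedImmersion D.ι := .of_isPreimmersion _ (by rw [Scheme.Opens.range_ι]; exact isClosed_connectedComponent)
  haveI : IsFinite (pullback.fst w m) := MorphismProperty.pullback_fst _ _ ‹IsFinite m›
  haveI : Etale (pullback.fst w m) := MorphismProperty.pullback_fst _ _ ‹Etale m›
  haveI : Surjective (D.ι ≫ pullback.fst w m) := by
    refine ⟨fun c => ?_⟩
    haveI : Nonempty ↥(D : Scheme.{u}) := ⟨⟨_, mem_connectedComponent⟩⟩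
    obtain ⟨a, -, ha⟩ := ((FEtEq25.isClopen_image (D.ι ≫ pullback.fst w m) isClopen_univ).eq_univ
      (Set.univ_nonempty.image (D.ι ≫ pullback.fst w m : (D : Scheme.{u}) ⟶ W.left))).ge (Set.mem_univ c)
    exact ⟨a, ha⟩
  haveI : Surjective (eL.hom ≫ D.ι ≫ pullback.fst w m) := inferInstanceAs (Surjective (eL.hom ≫ (D.ι ≫ pullback.fst w m)))
  haveI : Surjective (ψ.hom ≫ eL.hom ≫ D.ι ≫ pullback.fst w m) := MorphismProperty.comp_mem @Surjective ψ.hom _ ⟨fun z => ⟨ψ.inv z, (Scheme.Hom.comp_apply ψ.inv ψ.hom z).symm.trans (by rw [ψ.inv_hom_id]; rfl)⟩⟩ ‹_›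
  refine ⟨X', T, ψ.hom ≫ eL.hom ≫ D.ι ≫ pullback.fst w m, ?_, inferInstance⟩
  have he : eL.hom ≫ D.ι ≫ pullback.snd w m = pullback.snd y' f := MorphismProperty.Over.w e.hom
  simp only [Category.assoc, show W.hom = w from rfl, pullback.condition]
  rw [reassoc_of% he]
  show pullback.lift _ _ _ ≫ pullback.snd y' f ≫ m = _
  rw [pullback.lift_snd_assoc]
  apply pullback.hom_ext <;> simp [m, x', y']

end Groth.Agent.Product25
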